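import Mathlib

/-!
# Iterates of `f • Δ` for an operator `Δ` semilinear over a derivation
-/

set_option autoImplicit false

noncomputable section

namespace Groth.Agent.PCurvLib

universe u

/-- The coefficients of `(f Δ)^n` in terms of the powers of `Δ`. -/
def coefP {R : Type*} [CommRing R] (D : R → R) (f : R) : ℕ → ℕ → R
  | 0, 0 => 1
  | 0, _ + 1 => 0
  | n + 1, 0 => f * D (coefP D f n 0)
  | n + 1, k + 1 => f * D (coefP D f n (k + 1)) + f * coefP D f n k

theorem coefP_map {R S : Type*} [CommRing R] [CommRing S] (φ : R →+* S) (D : R → R) (D' : S → S)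
    (h : ∀ r, φ (D r) = D' (φ r)) (f : R) : ∀ n k, φ (coefP D f n k) = coefP D' (φ f) n k := by
  intro n
  induction n with
  | zero => intro k; cases k <;> simp [coefP]
  | succ n ih => intro k; cases k <;> simp [coefP, h, ih]

theorem coefP_of_lt {R : Type*} [CommRing R] (D : R →+ R) (f : R) :
    ∀ n k, n < k → coefP D f n k = 0 := by
  intro n
  induction n with
  | zero => intro k hk; cases k with
    | zero => omega
    | succ k => rfl
  | succ n ih => intro k hk; cases k with
    | zero => omega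
    | succ k => simp [coefP, ih k (by omega), ih (k + 1) (by omega)]

theorem coefP_self {R : Type*} [CommRing R] (D : R →+ R) (f : R) : ∀ n, coefP D f n n = f ^ n := by
  intro n
  induction n with
  | zero => simp [coefP]
  | succ n ih => simp [coefP, coefP_of_lt D f n (n + 1) (by omega), ih, pow_succ, mul_comm]

theorem coefP_zero {R : Type*} [CommRing R] (D : R →+ R) (f : R) (h1 : D 1 = 0) :
    ∀ n, coefP D f (n + 1) 0 = 0 := by
  intro n
  induction n with
  | zero => simp [coefP, h1]
  | succ n ih => rw [coefP, ih, map_zero, mul_zero]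

theorem iterate_smul {R M : Type*} [CommRing R] [AddCommGroup M] [Module R M] (D : R →+ R) (f : R)
    (Δ : M →+ M) (hΔ : ∀ (b : R) (m : M), Δ (b • m) = b • Δ m + D b • m) (n : ℕ) (m : M) :
    (fun x => f • Δ x)^[n] m = ∑ k ∈ Finset.range (n + 1), coefP D f n k • (⇑Δ)^[k] m := by
  induction n with
  | zero => simp [coefP]
  | succ n ih =>
    rw [Function.iterate_succ_apply', ih, map_sum, Finset.smul_sum]
    simp only [hΔ, smul_add, smul_smul, Finset.sum_add_distrib, ← Function.iterate_succ_apply' (⇑Δ)]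
    rw [Finset.sum_range_succ' (fun k => coefP D f (n + 1) k • (⇑Δ)^[k] m)]
    simp only [coefP, add_smul, Finset.sum_add_distrib]
    rw [Finset.sum_range_succ' (fun x => (f * D (coefP D f n x)) • (⇑Δ)^[x] m),
      Finset.sum_range_succ (fun x => (f * D (coefP D f n (x + 1))) • (⇑Δ)^[x + 1] m),
      coefP_of_lt D f n (n + 1) (by omega), map_zero, mul_zero, zero_smul]
    abel

variable {A R : Type*} [CommRing A] [CommRing R] [Algebra A R]

theorem iterate_leibniz (D : Derivation A R R) (a b : R) (n : ℕ) :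
    (⇑D)^[n] (a * b) = ∑ i ∈ Finset.range (n + 1), (n.choose i : R) * ((⇑D)^[i] a * (⇑D)^[n - i] b) := by
  induction n with
  | zero => simp
  | succ n ih =>
    rw [Function.iterate_succ_apply', ih, map_sum,
      Finset.sum_choose_succ_mul (fun i j => (⇑D)^[i] a * (⇑D)^[j] b) n, ← Finset.sum_add_distrib]
    refine Finset.sum_congr rfl fun i hi => ?_
    have hi' : n + 1 - i = n - i + 1 := by have := Finset.mem_range.1 hi; omega
    rw [D.leibniz, D.leibniz, Derivation.map_natCast, smul_zero, add_zero, hi', Function.iterate_succ_apply',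
      Function.iterate_succ_apply']
    simp only [smul_eq_mul]
    ring

theorem iterate_prime_leibniz (p : ℕ) [hp : Fact p.Prime] [CharP R p] (D : Derivation A R R) (a b : R) :
    (⇑D)^[p] (a * b) = a * (⇑D)^[p] b + b * (⇑D)^[p] a := by
  rw [iterate_leibniz, Finset.sum_range_succ]
  rw [Finset.sum_eq_single 0]
  · simp [mul_comm]
  · intro i hi hi0
    rw [(CharP.cast_eq_zero_iff R p _).2 (hp.1.dvd_choose_self hi0 (Finset.mem_range.1 hi)), zero_mul]
  · intro h
    exact absurd (Finset.mem_range.2 hp.1.pos) h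

/-- The `p`-th iterate of a derivation in characteristic `p`, as a derivation. -/
def iterDer (p : ℕ) [Fact p.Prime] [CharP R p] (D : Derivation A R R) : Derivation A R R :=
  Derivation.mk' ((D : R →ₗ[A] R) ^ p) fun a b => by
    simp only [Module.End.coe_pow, Derivation.coeFn_coe, smul_eq_mul]
    exact iterate_prime_leibniz p D a b

theorem iterDer_apply (p : ℕ) [Fact p.Prime] [CharP R p] (D : Derivation A R R) (b : R) :
    iterDer p D b = (⇑D)^[p] b := by
  simp [iterDer, Module.End.coe_pow]

/-- In characteristic `p` only `Δ` and `Δ^p` occur in `(f Δ)^p`. -/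
theorem coefP_prime {A : Type*} {B : Type u} [CommRing A] [CommRing B] [Algebra A B] (p : ℕ) [hp : Fact p.Prime]
    [CharP B p] (θ : Derivation A B B) (f : B) {k : ℕ} (h2 : 2 ≤ k) (hk : k < p) :
    coefP θ f p k = 0 := by
  let D₀ : Derivation (ZMod p) (MvPolynomial ℕ (ZMod p)) (MvPolynomial ℕ (ZMod p)) := MvPolynomial.mkDerivation _ fun i => MvPolynomial.X (i + 1)
  let D₁ : Derivation (ZMod p) (MvPolynomial (Option ℕ) (ZMod p)) (MvPolynomial (Option ℕ) (ZMod p)) := MvPolynomial.mkDerivation _ fun i =>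
    i.elim 1 fun j => MvPolynomial.X (some (j + 1))
  let φ : (MvPolynomial ℕ (ZMod p)) →+* B := MvPolynomial.eval₂Hom (ZMod.castHom (dvd_refl p) B) fun i => (⇑θ)^[i] f
  let F : (MvPolynomial ℕ (ZMod p)) →+* (MvPolynomial (Option ℕ) (ZMod p)) := (MvPolynomial.rename some).toRingHom
  have hφ : ∀ r, φ (D₀ r) = θ (φ r) := fun r => by
    induction r using MvPolynomial.induction_on with
    | C c =>
      obtain ⟨c, rfl⟩ := ZMod.natCast_zmod_surjective c
      rw [map_natCast, Derivation.map_natCast, map_zero, map_natCast, Derivation.map_natCast]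
    | add a b ha hb => rw [map_add, map_add, map_add, map_add, ha, hb]
    | mul_X a i ha =>
      rw [D₀.leibniz, map_mul φ a, θ.leibniz, map_add, smul_eq_mul, smul_eq_mul, map_mul, map_mul, ha,
        MvPolynomial.mkDerivation_X]
      simp [φ, Function.iterate_succ_apply']
  have hF : ∀ r, F (D₀ r) = D₁ (F r) := fun r => by
    induction r using MvPolynomial.induction_on with
    | C c =>
      obtain ⟨c, rfl⟩ := ZMod.natCast_zmod_surjective c
      rw [map_natCast, Derivation.map_natCast, map_zero, map_natCast, Derivation.map_natCast]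
    | add a b ha hb => rw [map_add, map_add, map_add, map_add, ha, hb]
    | mul_X a i ha =>
      rw [D₀.leibniz, map_mul F a, D₁.leibniz, map_add, smul_eq_mul, smul_eq_mul, map_mul, map_mul, ha,
        MvPolynomial.mkDerivation_X]
      simp [F, D₁]
  have hf : φ (MvPolynomial.X 0) = f := by simp [φ]
  suffices h : coefP D₀ (MvPolynomial.X 0 : (MvPolynomial ℕ (ZMod p))) p k = 0 by
    rw [← hf, ← coefP_map φ _ _ hφ, h, map_zero]
  have hFi : Function.Injective F := MvPolynomial.rename_injective some (Option.some_injective ℕ)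
  apply hFi
  rw [map_zero, coefP_map F _ _ hF]
  let g : (MvPolynomial (Option ℕ) (ZMod p)) := F (MvPolynomial.X 0)
  let x : (MvPolynomial (Option ℕ) (ZMod p)) := MvPolynomial.X none
  let ev : (MvPolynomial (Option ℕ) (ZMod p)) →+* (MvPolynomial ℕ (ZMod p)) := MvPolynomial.eval₂Hom MvPolynomial.C fun i => i.elim 0 MvPolynomial.X
  have hev : ∀ r, ev (F r) = r := fun r => by
    induction r using MvPolynomial.induction_on with
    | C c => simp [F, ev]
    | add a b ha hb => rw [map_add, map_add, ha, hb]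
    | mul_X a i ha =>
      rw [map_mul, map_mul, ha]
      simp [F, ev]
  have hD : ∀ i, (⇑D₁)^[i] (x ^ k) = (k.descFactorial i : (MvPolynomial (Option ℕ) (ZMod p))) * x ^ (k - i) := fun i => by
    induction i with
    | zero => simp
    | succ i ih =>
      rw [Function.iterate_succ_apply', ih, D₁.leibniz, Derivation.map_natCast, smul_zero, add_zero,
        D₁.leibniz_pow, MvPolynomial.mkDerivation_X, smul_eq_mul, Nat.descFactorial_succ, Nat.cast_mul,
        Nat.sub_sub]
      simp
      ring
  have key := iterate_smul (M := (MvPolynomial (Option ℕ) (ZMod p))) (D₁ : (MvPolynomial (Option ℕ) (ZMod p)) →ₗ[ZMod p] (MvPolynomial (Option ℕ) (ZMod p))).toAddMonoidHom g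
    (D₁ : (MvPolynomial (Option ℕ) (ZMod p)) →ₗ[ZMod p] (MvPolynomial (Option ℕ) (ZMod p))).toAddMonoidHom (fun b m => by
      show D₁ (b • m) = b • D₁ m + D₁ b • m
      rw [smul_eq_mul, D₁.leibniz]; simp [mul_comm]) p (x ^ k)
  have hE : (fun y : (MvPolynomial (Option ℕ) (ZMod p)) => g • D₁ y)^[p] (x ^ k) =
      (k : (MvPolynomial (Option ℕ) (ZMod p))) * x ^ (k - 1) * (⇑(g • D₁))^[p] x := by
    have e : (fun y : (MvPolynomial (Option ℕ) (ZMod p)) => g • D₁ y) = ⇑(g • D₁) := rfl
    rw [e, ← iterDer_apply p (g • D₁), ← iterDer_apply p (g • D₁), Derivation.leibniz_pow, nsmul_eq_mul,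
      smul_eq_mul, mul_assoc]
  have key' := congrArg ev key
  change ev ((fun y : (MvPolynomial (Option ℕ) (ZMod p)) => g • D₁ y)^[p] (x ^ k)) = _ at key'
  rw [hE, map_mul, map_mul, map_pow, show ev x = 0 by simp [ev, x], zero_pow (by omega : k - 1 ≠ 0), mul_zero,
    zero_mul, map_sum, Finset.sum_eq_single k] at key'
  · change 0 = ev (coefP (⇑D₁) g p k • (⇑D₁)^[k] (x ^ k)) at key'
    rw [hD, Nat.sub_self, pow_zero, mul_one, smul_eq_mul, map_mul, map_natCast, Nat.descFactorial_self,
      ← coefP_map F _ _ hF, hev] at key'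
    rw [← coefP_map F _ _ hF]
    rcases mul_eq_zero.1 key'.symm with h | h
    · rw [h, map_zero]
    · exact absurd ((hp.1.dvd_factorial).1 ((CharP.cast_eq_zero_iff (MvPolynomial ℕ (ZMod p)) p _).1 h)) (by omega)
  · intro i _ hi
    change ev (coefP (⇑D₁) g p i • (⇑D₁)^[i] (x ^ k)) = 0
    rw [hD, smul_eq_mul, map_mul, map_mul, map_natCast, map_pow, show ev x = 0 by simp [ev, x]]
    rcases lt_or_gt_of_ne hi with h | h
    · rw [zero_pow (by omega : k - i ≠ 0), mul_zero, mul_zero]
    · rw [Nat.descFactorial_eq_zero_iff_lt.2 h, Nat.cast_zero, zero_mul, mul_zero]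
  · intro h
    exact absurd (Finset.mem_range.2 (by omega)) h

/-- `(f Δ)^p = f^p Δ^p + c Δ` with `c` independent of `Δ`. -/
theorem iterate_prime_smul {A : Type*} {B : Type u} [CommRing A] [CommRing B] [Algebra A B] (p : ℕ)
    [hp : Fact p.Prime] [CharP B p] (θ : Derivation A B B) (f : B) {M : Type*} [AddCommGroup M] [Module B M]
    (Δ : M →+ M) (hΔ : ∀ (b : B) (m : M), Δ (b • m) = b • Δ m + θ b • m) (m : M) :
    (fun x => f • Δ x)^[p] m = f ^ p • (⇑Δ)^[p] m + coefP θ f p 1 • Δ m := by
  rw [iterate_smul (θ : B →ₗ[A] B).toAddMonoidHom f Δ hΔ p m, Finset.sum_range_succ, coefP_self, add_comm]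
  congr 1
  rw [Finset.sum_eq_single 1]
  · rfl
  · intro k hk hk1
    rcases Nat.lt_or_ge k 2 with h | h
    · obtain rfl : k = 0 := by omega
      obtain ⟨q, hq⟩ : ∃ q, p = q + 1 := ⟨p - 1, by have := hp.1.pos; omega⟩
      subst hq
      rw [coefP_zero _ f (by simp) q, zero_smul]
    · show coefP θ f p k • _ = 0
      rw [coefP_prime p θ f h (Finset.mem_range.1 hk), zero_smul]
  · intro h
    exact absurd (Finset.mem_range.2 hp.1.one_lt) h

end Groth.Agent.PCurvLib
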